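import Mathlib

/-!
Stalks at a point which is alone in its fibre of an integral morphism.
-/

set_option autoImplicit false

universe u

open CategoryTheory AlgebraicGeometry TopologicalSpace

namespace Groth.Agent.StalkUniqueLib

/-- Each element of the stalk is a fraction with denominator from the stalk of the base and numerator a
section over the inverse image of any affine open neighbourhood. -/
theorem exists_smul_eq {X Y : Scheme.{u}} (π : X ⟶ Y) [IsIntegralHom π] (x : X)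
    (hx : ∀ x' : ↑X, π x' = π x → x' = x) (V : Y.Opens) (hV : IsAffineOpen V) (hyV : π x ∈ V)
    (z : X.presheaf.stalk x) :
    ∃ (r : Y.presheaf.stalk (π x)) (b : Γ(X, π ⁻¹ᵁ V)),
      z = π.stalkMap x r * X.presheaf.germ (π ⁻¹ᵁ V) x hyV b := by
  let U := π ⁻¹ᵁ V
  have hU : IsAffineOpen U := hV.preimage π
  let A := Γ(Y, V)
  let B := Γ(X, U)
  have hint : (π.appLE V U le_rfl).hom.IsIntegral := by
    rw [← Scheme.Hom.app_eq_appLE]; exact IsIntegralHom.isIntegral_app π V hV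
  letI : Algebra A B := (π.appLE V U le_rfl).hom.toAlgebra
  haveI : Algebra.IsIntegral A B := ⟨hint⟩
  let Sy := Y.presheaf.stalk (π x)
  let Sx := X.presheaf.stalk x
  letI : Algebra A Sy := Y.presheaf.algebra_section_stalk ⟨π x, hyV⟩
  letI : Algebra B Sx := X.presheaf.algebra_section_stalk (U := U) ⟨x, hyV⟩
  letI : Algebra Sy Sx := (π.stalkMap x).hom.toAlgebra
  haveI := hV.isLocalization_stalk ⟨π x, hyV⟩
  haveI := hU.isLocalization_stalk ⟨x, hyV⟩
  have hcomm : ∀ a : A, algebraMap Sy Sx (algebraMap A Sy a) = algebraMap B Sx (algebraMap A B a) := fun a => by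
    show π.stalkMap x (Y.presheaf.germ V (π x) hyV a) = X.presheaf.germ U x hyV (π.appLE V U le_rfl a)
    rw [Scheme.Hom.germ_stalkMap_apply, ← Scheme.Hom.app_eq_appLE]
  let p := (hV.primeIdealOf ⟨π x, hyV⟩).asIdeal
  let q := (hU.primeIdealOf ⟨x, hyV⟩).asIdeal
  have key : ∀ s : B, s ∉ q → ∃ u : A, u ∉ p ∧ algebraMap A B u ∈ Ideal.span {s} := by
    intro s hs
    by_contra hno
    push Not at hno
    obtain ⟨Q, hQs, hQ, hQp⟩ := Ideal.exists_ideal_over_prime_of_isIntegral (S := B) p (Ideal.span {s})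
      (fun a ha => by_contra fun hap => hno a hap ha)
    have he : hV.fromSpec (hV.primeIdealOf ⟨π x, hyV⟩) = π (hU.fromSpec (⟨Q, hQ⟩ : PrimeSpectrum B)) := by
      rw [← Scheme.Hom.comp_apply, ← IsAffineOpen.SpecMap_appLE_fromSpec π hV hU le_rfl, Scheme.Hom.comp_apply]
      exact congrArg hV.fromSpec (PrimeSpectrum.ext hQp.symm)
    rw [IsAffineOpen.fromSpec_primeIdealOf] at he
    have h2 := hx _ he.symm
    have h2 := h2.trans (IsAffineOpen.fromSpec_primeIdealOf hU ⟨x, hyV⟩).symm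
    have h3 := congrArg PrimeSpectrum.asIdeal (hU.fromSpec.isOpenEmbedding.injective h2)
    exact hs (h3.le (show s ∈ (⟨Q, hQ⟩ : PrimeSpectrum B).asIdeal from hQs (Ideal.mem_span_singleton_self s)))
  obtain ⟨b, ⟨s, hs⟩, rfl⟩ := IsLocalization.exists_mk'_eq q.primeCompl z
  obtain ⟨u, hu, hus⟩ := key s hs
  obtain ⟨c, hc⟩ := Ideal.mem_span_singleton'.1 hus
  have hmk : IsLocalization.mk' Sx b (⟨s, hs⟩ : q.primeCompl) =
      IsLocalization.mk' Sy 1 (⟨u, hu⟩ : p.primeCompl) • algebraMap B Sx (c * b) := by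
    rw [IsLocalization.mk'_eq_iff_eq_mul, Algebra.smul_def]
    have h1 : algebraMap Sy Sx (IsLocalization.mk' Sy 1 (⟨u, hu⟩ : p.primeCompl)) *
        algebraMap B Sx (algebraMap A B u) = 1 := by
      rw [← hcomm, ← map_mul, IsLocalization.mk'_spec, map_one, map_one]
    rw [← hc, map_mul] at h1
    linear_combination (-(algebraMap B Sx b)) * h1 + (algebraMap Sy Sx (IsLocalization.mk' Sy 1 (⟨u, hu⟩ : p.primeCompl))) * (algebraMap B Sx s) * (map_mul (algebraMap B Sx) c b).symm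
  exact ⟨_, c * b, hmk.trans (Algebra.smul_def _ _)⟩

theorem isIntegral_stalkMap {X Y : Scheme.{u}} (π : X ⟶ Y) [IsIntegralHom π] (x : X)
    (hx : ∀ x' : ↑X, π x' = π x → x' = x) : (π.stalkMap x).hom.IsIntegral := by
  obtain ⟨V, hV, hyV, -⟩ := exists_isAffineOpen_mem_and_subset (x := π x) (U := (⊤ : Y.Opens)) trivial
  intro z
  obtain ⟨r, b, rfl⟩ := exists_smul_eq π x hx V hV hyV z
  refine RingHom.IsIntegralElem.mul _ ((π.stalkMap x).hom.isIntegralElem_map) ?_
  obtain ⟨p, hp, he⟩ := IsIntegralHom.isIntegral_app π V hV b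
  refine ⟨p.map (Y.presheaf.germ V (π x) hyV).hom, hp.map _, ?_⟩
  rw [Polynomial.eval₂_map, ← CommRingCat.hom_comp, Scheme.Hom.germ_stalkMap, CommRingCat.hom_comp,
    ← Polynomial.hom_eval₂, he, map_zero]

theorem finite_stalkMap {X Y : Scheme.{u}} (π : X ⟶ Y) [IsFinite π] (x : X)
    (hx : ∀ x' : ↑X, π x' = π x → x' = x) : (π.stalkMap x).hom.Finite := by
  classical
  obtain ⟨V, hV, hyV, -⟩ := exists_isAffineOpen_mem_and_subset (x := π x) (U := (⊤ : Y.Opens)) trivial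
  have hfin : (π.app V).hom.Finite := IsFinite.finite_app (f := π) V hV
  algebraize [(π.app V).hom, (π.stalkMap x).hom]
  haveI : Module.Finite Γ(Y, V) Γ(X, π ⁻¹ᵁ V) := hfin
  obtain ⟨t, ht⟩ := Module.finite_def.1 ‹Module.Finite Γ(Y, V) Γ(X, π ⁻¹ᵁ V)›
  refine ⟨⟨t.image (X.presheaf.germ (π ⁻¹ᵁ V) x hyV), eq_top_iff.2 fun z _ => ?_⟩⟩
  rw [Finset.coe_image]
  obtain ⟨r, b, rfl⟩ := exists_smul_eq π x hx V hV hyV z
  refine Submodule.smul_mem _ r ?_
  have hb : b ∈ Submodule.span Γ(Y, V) (t : Set Γ(X, π ⁻¹ᵁ V)) := ht ▸ Submodule.mem_top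
  refine Submodule.span_induction (fun m hm => Submodule.subset_span ⟨m, hm, rfl⟩) (by simp)
    (fun m m' _ _ h h' => by rw [map_add]; exact add_mem h h') (fun a m _ h => ?_) hb
  rw [Algebra.smul_def, map_mul, show X.presheaf.germ (π ⁻¹ᵁ V) x hyV (algebraMap Γ(Y, V) Γ(X, π ⁻¹ᵁ V) a) =
    π.stalkMap x (Y.presheaf.germ V (π x) hyV a) from (Scheme.Hom.germ_stalkMap_apply π V x hyV a).symm]
  exact Submodule.smul_mem _ (Y.presheaf.germ V (π x) hyV a) h

end Groth.Agent.StalkUniqueLib
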